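import Mathlib
import Groth.Prelude.Def_W4c5spincurvestfNode

/-!
`R[x, y]/(xy - π)` is free over `R` on `x ^ m` (`m ≥ 0`), `y ^ (-m)` (`m < 0`), and the kernel of
`(g, f) ↦ g| - T ^ n • f|` into Laurent polynomials is free for `n ≥ -1`.
-/

set_option autoImplicit false

universe u

namespace Groth.SpinCurv

open _root_.SpinCurv

variable {R : Type u} [CommRing R]

/-- The basis vector of degree `m`. -/
noncomputable def e (π : R) (m : ℤ) : PolyNodeRing R π :=
  if 0 ≤ m then PolyNodeRing.x R π ^ m.toNat else PolyNodeRing.y R π ^ (-m).toNat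

theorem e_natCast (π : R) (j : ℕ) : e π (j : ℤ) = PolyNodeRing.x R π ^ j := by
  simp [e]

theorem e_neg_natCast (π : R) (j : ℕ) : e π (-(j : ℤ)) = PolyNodeRing.y R π ^ j := by
  rcases j with _ | j
  · simp [e]
  · rw [e, if_neg (by omega)]
    simp

theorem x_mul_y (π : R) :
    PolyNodeRing.x R π * PolyNodeRing.y R π = algebraMap R (PolyNodeRing R π) π :=
  Ideal.Quotient.mk_eq_mk_iff_sub_mem (MvPolynomial.X 0 * MvPolynomial.X 1) (MvPolynomial.C π) |>.2
    (Ideal.mem_span_singleton_self _)

theorem x_pow_mul_y_pow (π : R) : ∀ i j : ℕ,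
    PolyNodeRing.x R π ^ i * PolyNodeRing.y R π ^ j = π ^ min i j • e π ((i : ℤ) - j) := by
  intro i j
  induction i generalizing j with
  | zero => simp [e_neg_natCast]
  | succ i ih =>
    rcases j with _ | j
    · simpa using (e_natCast π (i + 1)).symm
    · rw [pow_succ', pow_succ', mul_mul_mul_comm, x_mul_y, ih j, ← Algebra.smul_def, smul_smul, ← pow_succ',
        Nat.succ_min_succ]
      congr 2
      push_cast
      ring

/-- Coordinates on the polynomial ring. -/
noncomputable def mon (π : R) : MvPolynomial (Fin 2) R →ₗ[R] (ℤ →₀ R) :=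
  (MvPolynomial.basisMonomials (Fin 2) R).constr R fun m =>
    Finsupp.single ((m 0 : ℤ) - m 1) (π ^ min (m 0) (m 1))

theorem mon_monomial (π : R) (m : Fin 2 →₀ ℕ) (c : R) :
    mon π (MvPolynomial.monomial m c) = Finsupp.single ((m 0 : ℤ) - m 1) (c * π ^ min (m 0) (m 1)) := by
  have h : MvPolynomial.monomial m c = c • MvPolynomial.basisMonomials (Fin 2) R m := by
    simp [MvPolynomial.smul_monomial]
  rw [h, map_smul, mon, Module.Basis.constr_basis, Finsupp.smul_single, smul_eq_mul]

theorem mon_eq_zero (π : R) {z : MvPolynomial (Fin 2) R}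
    (hz : z ∈ Ideal.span {(MvPolynomial.X 0 * MvPolynomial.X 1 - MvPolynomial.C π : MvPolynomial (Fin 2) R)}) :
    mon π z = 0 := by
  obtain ⟨h, rfl⟩ := Ideal.mem_span_singleton'.1 hz
  clear hz
  induction h using MvPolynomial.induction_on' with
  | monomial m c =>
    have hX : (MvPolynomial.X 0 * MvPolynomial.X 1 : MvPolynomial (Fin 2) R) =
        MvPolynomial.monomial (Finsupp.single 0 1 + Finsupp.single 1 1) 1 := by
      simp [MvPolynomial.X, MvPolynomial.monomial_mul]
    rw [hX, mul_sub, MvPolynomial.monomial_mul, mul_comm _ (MvPolynomial.C π),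
      MvPolynomial.C_mul_monomial, map_sub, mon_monomial, mon_monomial, sub_eq_zero]
    have h0 : ((m + (Finsupp.single 0 1 + Finsupp.single 1 1)) : Fin 2 →₀ ℕ) 0 = m 0 + 1 := by simp
    have h1 : ((m + (Finsupp.single 0 1 + Finsupp.single 1 1)) : Fin 2 →₀ ℕ) 1 = m 1 + 1 := by simp
    rw [h0, h1, ← Nat.succ_eq_add_one, ← Nat.succ_eq_add_one, Nat.succ_min_succ]
    push_cast
    rw [add_sub_add_right_eq_sub, pow_succ']
    congr 1
    ring
  | add a b ha hb => rw [add_mul, map_add, ha, hb, add_zero]

/-- Coordinates of an element of the node ring. -/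
noncomputable def coord (π : R) : PolyNodeRing R π →ₗ[R] (ℤ →₀ R) :=
  ((Ideal.span {(MvPolynomial.X 0 * MvPolynomial.X 1 - MvPolynomial.C π : MvPolynomial (Fin 2) R)}).restrictScalars R).liftQ
      (mon π) (fun _ hz => mon_eq_zero π hz) ∘ₗ
    (Submodule.Quotient.restrictScalarsEquiv R
      (Ideal.span {(MvPolynomial.X 0 * MvPolynomial.X 1 - MvPolynomial.C π : MvPolynomial (Fin 2) R)})).symm.toLinearMap

theorem coord_mk (π : R) (z : MvPolynomial (Fin 2) R) :
    coord π (Ideal.Quotient.mk _ z) = mon π z := rfl

theorem coord_e (π : R) (m : ℤ) : coord π (e π m) = Finsupp.single m 1 := by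
  rw [e]
  split_ifs with h
  · rw [show PolyNodeRing.x R π ^ m.toNat = Ideal.Quotient.mk _ (MvPolynomial.monomial (Finsupp.single 0 m.toNat) 1) by
      rw [← MvPolynomial.X_pow_eq_monomial, map_pow], coord_mk, mon_monomial]
    simp [h]
  · rw [show PolyNodeRing.y R π ^ (-m).toNat = Ideal.Quotient.mk _ (MvPolynomial.monomial (Finsupp.single 1 (-m).toNat) 1) by
      rw [← MvPolynomial.X_pow_eq_monomial, map_pow], coord_mk, mon_monomial]
    simp [show max (-m) 0 = -m by omega]

theorem mk_monomial (π : R) (m : Fin 2 →₀ ℕ) (c : R) :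
    (Ideal.Quotient.mk _ (MvPolynomial.monomial m c) : PolyNodeRing R π) =
      c • (PolyNodeRing.x R π ^ m 0 * PolyNodeRing.y R π ^ m 1) := by
  rw [MvPolynomial.monomial_eq, map_mul, Finsupp.prod_fintype _ _ (fun _ => pow_zero _), Fin.prod_univ_two,
    map_mul, map_pow, map_pow]
  exact (Algebra.smul_def c ((PolyNodeRing.x R π) ^ m 0 * (PolyNodeRing.y R π) ^ m 1)).symm

theorem linearCombination_coord (π : R) (z : PolyNodeRing R π) :
    Finsupp.linearCombination R (e π) (coord π z) = z := by
  obtain ⟨z, rfl⟩ := Ideal.Quotient.mk_surjective z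
  induction z using MvPolynomial.induction_on' with
  | monomial m c =>
    rw [coord_mk, mon_monomial, Finsupp.linearCombination_single, mk_monomial, x_pow_mul_y_pow, smul_smul]
  | add a b ha hb => rw [map_add, map_add, map_add, ha, hb]

/-- The node ring is free over `R`. -/
noncomputable def coordEquiv (π : R) : PolyNodeRing R π ≃ₗ[R] (ℤ →₀ R) :=
  LinearEquiv.ofLinearMap (coord π) (Finsupp.linearCombination R (e π))
    (Finsupp.lhom_ext fun m c => by
      rw [LinearMap.comp_apply, Finsupp.linearCombination_single, map_smul, coord_e, LinearMap.id_apply,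
        Finsupp.smul_single, smul_eq_mul, mul_one])
    (LinearMap.ext fun z => linearCombination_coord π z)

theorem coord_injective (π : R) : Function.Injective (coord π) := (coordEquiv π).injective

theorem induction_coord {π : R} {P : PolyNodeRing R π → Prop} (z : PolyNodeRing R π) (h0 : P 0)
    (hadd : ∀ a b, P a → P b → P (a + b)) (he : ∀ (m : ℤ) (c : R), P (c • e π m)) : P z := by
  rw [← linearCombination_coord π z]
  induction coord π z using Finsupp.induction_linear with
  | zero => simpa using h0
  | add f g hf hg => rw [map_add]; exact hadd _ _ hf hg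
  | single m c => rw [Finsupp.linearCombination_single]; exact he m c

variable {π : R}

/-- An algebra map with `x ↦ T 1`, `y ↦ π T (-1)` in coordinates. -/
theorem coeff_gU {g : PolyNodeRing R π →ₐ[R] LaurentPolynomial R}
    (hx : g (PolyNodeRing.x R π) = LaurentPolynomial.T 1)
    (hy : g (PolyNodeRing.y R π) = LaurentPolynomial.C π * LaurentPolynomial.T (-1))
    (z : PolyNodeRing R π) (k : ℤ) : (g z).coeff k = π ^ (-k).toNat * coord π z k := by
  induction z using induction_coord with
  | h0 => simp
  | hadd a b ha hb => simp [ha, hb, mul_add]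
  | he m c =>
    have hg : g (e π m) = AddMonoidAlgebra.single m (π ^ (-m).toNat) := by
      rw [LaurentPolynomial.single_eq_C_mul_T, e]
      split_ifs with h
      · simp [map_pow, hx, show (-m).toNat = 0 by omega, h]
      · rw [map_pow, hy, mul_pow, ← map_pow, LaurentPolynomial.T_pow]
        congr 2
        omega
    rw [map_smul, hg, map_smul, coord_e]
    simp only [AddMonoidAlgebra.coeff_smul, AddMonoidAlgebra.coeff_single, Finsupp.smul_apply,
      Finsupp.single_apply, smul_eq_mul]
    split_ifs with h
    · subst h; ring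
    · simp

/-- An algebra map with `x ↦ T (-1)`, `y ↦ π T 1` in coordinates. -/
theorem coeff_gV {g : PolyNodeRing R π →ₐ[R] LaurentPolynomial R}
    (hx : g (PolyNodeRing.x R π) = LaurentPolynomial.T (-1))
    (hy : g (PolyNodeRing.y R π) = LaurentPolynomial.C π * LaurentPolynomial.T 1)
    (n : ℤ) (z : PolyNodeRing R π) (k : ℤ) :
    (LaurentPolynomial.T n * g z).coeff k = π ^ (k - n).toNat * coord π z (n - k) := by
  induction z using induction_coord with
  | h0 => simp
  | hadd a b ha hb => rw [map_add, mul_add, map_add, Finsupp.add_apply, mul_add, ← ha, ← hb]; simp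
  | he m c =>
    have hg : g (e π m) = AddMonoidAlgebra.single (-m) (π ^ (-m).toNat) := by
      rw [LaurentPolynomial.single_eq_C_mul_T, e]
      split_ifs with h
      · rw [map_pow, hx, LaurentPolynomial.T_pow, show (-m).toNat = 0 by omega]
        simp [h]
      · rw [map_pow, hy, mul_pow, ← map_pow, LaurentPolynomial.T_pow]
        congr 2
        omega
    rw [map_smul, hg, map_smul, coord_e, mul_smul_comm, LaurentPolynomial.T, AddMonoidAlgebra.single_mul_single, one_mul]
    simp only [AddMonoidAlgebra.coeff_smul, AddMonoidAlgebra.coeff_single, Finsupp.smul_apply,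
      Finsupp.single_apply, smul_eq_mul]
    by_cases h : m = n - k
    · rw [if_pos (by omega), if_pos h, show (-m).toNat = (k - n).toNat by omega]
      ring
    · rw [if_neg (by omega), if_neg h]
      simp

section Kernel

variable {p q : R} (n : ℤ)
  {gU : PolyNodeRing R q →ₐ[R] LaurentPolynomial R} {gV : PolyNodeRing R p →ₐ[R] LaurentPolynomial R}
  (hgUs : gU (PolyNodeRing.x R q) = LaurentPolynomial.T 1)
  (hgUy : gU (PolyNodeRing.y R q) = LaurentPolynomial.C q * LaurentPolynomial.T (-1))
  (hgVt : gV (PolyNodeRing.x R p) = LaurentPolynomial.T (-1))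
  (hgVx : gV (PolyNodeRing.y R p) = LaurentPolynomial.C p * LaurentPolynomial.T 1)

/-- The kernel vector of degree `k`. -/
noncomputable def secE (p q : R) (n k : ℤ) : PolyNodeRing R q × PolyNodeRing R p :=
  (p ^ (k - n).toNat • e q k, q ^ (-k).toNat • e p (n - k))

/-- The projection to the coordinates parametrising the kernel. -/
noncomputable def proj (p q : R) (n : ℤ) :
    (PolyNodeRing R q × PolyNodeRing R p) →ₗ[R] (ℤ →₀ R) :=
  (Finsupp.linearCombination R (fun m => if m < 0 then Finsupp.single m 1 else 0)) ∘ₗ
      coord q ∘ₗ LinearMap.fst R _ _ +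
    (Finsupp.linearCombination R (fun m => if 0 ≤ n - m then Finsupp.single (n - m) 1 else 0)) ∘ₗ
      coord p ∘ₗ LinearMap.snd R _ _

theorem proj_apply (z : PolyNodeRing R q × PolyNodeRing R p) (k : ℤ) :
    proj p q n z k = if 0 ≤ k then coord p z.2 (n - k) else coord q z.1 k := by
  have h1 : ∀ v : ℤ →₀ R, Finsupp.linearCombination R
      (fun m => if m < 0 then Finsupp.single m (1 : R) else 0) v k = if 0 ≤ k then 0 else v k := by
    intro v
    induction v using Finsupp.induction_linear with
    | zero => simp
    | add f g hf hg => rw [map_add, Finsupp.add_apply, hf, hg, Finsupp.add_apply]; split_ifs <;> simp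
    | single m c =>
      rw [Finsupp.linearCombination_single, Finsupp.smul_apply]
      by_cases hm : m < 0
      · rw [if_pos hm, Finsupp.single_apply, Finsupp.single_apply]
        split_ifs <;> first | omega | simp
      · rw [if_neg hm]
        simp only [Finsupp.single_apply, Finsupp.coe_zero, Pi.zero_apply, smul_zero]
        split_ifs <;> first | rfl | omega
  have h2 : ∀ v : ℤ →₀ R, Finsupp.linearCombination R
      (fun m => if 0 ≤ n - m then Finsupp.single (n - m) (1 : R) else 0) v k = if 0 ≤ k then v (n - k) else 0 := by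
    intro v
    induction v using Finsupp.induction_linear with
    | zero => simp
    | add f g hf hg => rw [map_add, Finsupp.add_apply, hf, hg, Finsupp.add_apply]; split_ifs <;> simp
    | single m c =>
      rw [Finsupp.linearCombination_single, Finsupp.smul_apply]
      by_cases hm : 0 ≤ n - m
      · rw [if_pos hm, Finsupp.single_apply, Finsupp.single_apply]
        split_ifs <;> first | omega | simp
      · rw [if_neg hm]
        simp only [Finsupp.single_apply, Finsupp.coe_zero, Pi.zero_apply, smul_zero]
        split_ifs <;> first | rfl | omega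
  simp only [proj, LinearMap.add_apply, LinearMap.comp_apply, LinearMap.fst_apply, LinearMap.snd_apply,
    Finsupp.add_apply]
  rw [h1, h2]
  split_ifs <;> simp

variable (hn : -1 ≤ n)
include hgUs hgUy hgVt hgVx

theorem eq_iff (z : PolyNodeRing R q × PolyNodeRing R p) :
    gU z.1 = LaurentPolynomial.T n * gV z.2 ↔
      ∀ k : ℤ, q ^ (-k).toNat * coord q z.1 k = p ^ (k - n).toNat * coord p z.2 (n - k) := by
  constructor
  · intro h k
    rw [← coeff_gU hgUs hgUy, ← coeff_gV hgVt hgVx, h]
  · intro h
    ext k
    rw [coeff_gU hgUs hgUy, coeff_gV hgVt hgVx, h k]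

theorem gU_secE (k : ℤ) : gU (secE p q n k).1 = LaurentPolynomial.T n * gV (secE p q n k).2 := by
  rw [eq_iff n hgUs hgUy hgVt hgVx (secE p q n k)]
  intro j
  simp only [secE, map_smul, coord_e, Finsupp.smul_apply, Finsupp.single_apply, smul_eq_mul]
  by_cases h : k = j
  · subst h
    simp only [if_true]
    ring
  · rw [if_neg h, if_neg (by omega)]
    simp

include hn in
theorem eq_of_proj_eq (z w : PolyNodeRing R q × PolyNodeRing R p)
    (hz : gU z.1 = LaurentPolynomial.T n * gV z.2) (hw : gU w.1 = LaurentPolynomial.T n * gV w.2)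
    (h : proj p q n z = proj p q n w) : z = w := by
  rw [eq_iff n hgUs hgUy hgVt hgVx] at hz hw
  have hk : ∀ k : ℤ, (if 0 ≤ k then coord p z.2 (n - k) else coord q z.1 k) =
      if 0 ≤ k then coord p w.2 (n - k) else coord q w.1 k := fun k => by
    rw [← proj_apply, ← proj_apply, h]
  have hboth : ∀ k : ℤ, coord q z.1 k = coord q w.1 k ∧ coord p z.2 (n - k) = coord p w.2 (n - k) := by
    intro k
    by_cases h0 : 0 ≤ k
    · have e1 := hk k
      rw [if_pos h0, if_pos h0] at e1
      have a := hz k
      have b := hw k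
      rw [show (-k).toNat = 0 by omega, pow_zero, one_mul] at a b
      exact ⟨by rw [a, b, e1], e1⟩
    · have e1 := hk k
      rw [if_neg h0, if_neg h0] at e1
      have a := hz k
      have b := hw k
      rw [show (k - n).toNat = 0 by omega, pow_zero, one_mul] at a b
      exact ⟨e1, by rw [← a, ← b, e1]⟩
  refine Prod.ext (coord_injective q (Finsupp.ext fun k => (hboth k).1))
    (coord_injective p (Finsupp.ext fun k => ?_))
  have := (hboth (n - k)).2
  rwa [sub_sub_cancel] at this

end Kernel

theorem proj_secE {p q : R} (n : ℤ) (hn : -1 ≤ n) (k : ℤ) :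
    proj p q n (secE p q n k) = Finsupp.single k 1 := by
  ext j
  rw [proj_apply]
  simp only [secE, map_smul, coord_e, Finsupp.smul_apply, Finsupp.single_apply, smul_eq_mul]
  by_cases h0 : 0 ≤ j
  · rw [if_pos h0]
    by_cases h : k = j
    · rw [if_pos (by omega), if_pos h, h, show (-j).toNat = 0 by omega]; simp
    · rw [if_neg (by omega), if_neg h]; simp
  · rw [if_neg h0]
    by_cases h : k = j
    · rw [if_pos h, h, show (j - n).toNat = 0 by omega]; simp
    · rw [if_neg h]; simp

theorem proj_linearCombination {p q : R} (n : ℤ) (hn : -1 ≤ n) (v : ℤ →₀ R) :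
    proj p q n (Finsupp.linearCombination R (secE p q n) v) = v := by
  induction v using Finsupp.induction_linear with
  | zero => simp
  | add f g hf hg => rw [map_add, map_add, hf, hg]
  | single m c => rw [Finsupp.linearCombination_single, map_smul, proj_secE n hn, Finsupp.smul_single, smul_eq_mul, mul_one]

end Groth.SpinCurv
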