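import Mathlib
import Groth.Prelude.Def_W4c5spincurvestfNode

/-!
`R[[x, y]]/(xy - π)` over an adically complete local ring with `π` in the maximal ideal: coordinates.
-/

set_option autoImplicit false

universe u

open IsLocalRing

namespace Groth.SpinCurv

variable {R : Type u} [CommRing R] [IsLocalRing R] [IsAdicComplete (maximalIdeal R) R]

/-- `a` sums to `L` along powers of `π`. -/
def SumsTo (π : R) (a : ℕ → R) (L : R) : Prop :=
  ∀ N, L - ∑ l ∈ Finset.range N, a l * π ^ l ∈ maximalIdeal R ^ N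

variable {π : R}

theorem exists_sumsTo (hπ : π ∈ maximalIdeal R) (a : ℕ → R) : ∃ L, SumsTo π a L := by
  have hpc : IsPrecomplete (maximalIdeal R) R := inferInstance
  have hcauchy : ∀ {m n : ℕ}, m ≤ n → (∑ l ∈ Finset.range m, a l * π ^ l) ≡ (∑ l ∈ Finset.range n, a l * π ^ l)
      [SMOD (maximalIdeal R ^ m • ⊤ : Submodule R R)] := by
    intro m n hmn
    rw [SModEq.sub_mem, smul_eq_mul, Ideal.mul_top, ← neg_sub, neg_mem_iff, ← Finset.sum_Ico_eq_sub _ hmn]
    exact Ideal.sum_mem _ fun l hl =>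
      Ideal.mul_mem_left _ _ (Ideal.pow_le_pow_right (Finset.mem_Ico.1 hl).1 (Ideal.pow_mem_pow hπ l))
  obtain ⟨L, hL⟩ := hpc.prec' (fun N => ∑ l ∈ Finset.range N, a l * π ^ l) hcauchy
  refine ⟨L, fun N => ?_⟩
  have := hL N
  rw [SModEq.sub_mem, smul_eq_mul, Ideal.mul_top] at this
  rw [← neg_sub, neg_mem_iff]
  exact this

omit [IsAdicComplete (maximalIdeal R) R] in
theorem SumsTo.add {a b : ℕ → R} {L M : R} (h : SumsTo π a L) (h' : SumsTo π b M) :
    SumsTo π (a + b) (L + M) := fun N => by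
  have := Ideal.add_mem _ (h N) (h' N)
  convert this using 1
  simp only [Pi.add_apply, add_mul, Finset.sum_add_distrib]
  ring

omit [IsAdicComplete (maximalIdeal R) R] in
theorem SumsTo.const_mul {a : ℕ → R} {L : R} (c : R) (h : SumsTo π a L) :
    SumsTo π (fun l => c * a l) (c * L) := fun N => by
  have := Ideal.mul_mem_left _ c (h N)
  convert this using 1
  rw [mul_sub, Finset.mul_sum]
  simp only [mul_assoc]

theorem SumsTo.unique {a : ℕ → R} {L M : R} (h : SumsTo π a L) (h' : SumsTo π a M) : L = M := by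
  have hh : IsHausdorff (maximalIdeal R) R := inferInstance
  refine sub_eq_zero.1 (hh.haus' _ fun N => ?_)
  rw [SModEq.sub_mem, smul_eq_mul, Ideal.mul_top, sub_zero]
  have := Ideal.sub_mem _ (h N) (h' N)
  convert this using 1
  ring

theorem SumsTo.succ (hπ : π ∈ maximalIdeal R) {a : ℕ → R} {L : R} (h : SumsTo π (fun l => a (l + 1)) L) :
    SumsTo π a (a 0 + π * L) := fun N => by
  rcases N with _ | N
  · simp
  rw [Finset.sum_range_succ', pow_succ' (maximalIdeal R)]
  have := Ideal.mul_mem_mul hπ (h N)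
  convert this using 1
  rw [mul_sub, Finset.mul_sum, pow_zero, mul_one]
  have e : ∀ l, a (l + 1) * π ^ (l + 1) = π * (a (l + 1) * π ^ l) := fun l => by ring
  simp only [e]
  ring

/-- The sum of `a l * π ^ l`. -/
noncomputable def adicSum (hπ : π ∈ maximalIdeal R) (a : ℕ → R) : R := (exists_sumsTo hπ a).choose

variable (hπ : π ∈ maximalIdeal R)

theorem adicSum_spec (a : ℕ → R) : SumsTo π a (adicSum hπ a) := (exists_sumsTo hπ a).choose_spec

theorem adicSum_eq_of {a : ℕ → R} {L : R} (h : SumsTo π a L) : adicSum hπ a = L :=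
  (adicSum_spec hπ a).unique h

theorem adicSum_succ (a : ℕ → R) : adicSum hπ a = a 0 + π * adicSum hπ (fun l => a (l + 1)) :=
  adicSum_eq_of hπ ((adicSum_spec hπ _).succ hπ)

theorem adicSum_add (a b : ℕ → R) : adicSum hπ (fun l => a l + b l) = adicSum hπ a + adicSum hπ b :=
  adicSum_eq_of hπ ((adicSum_spec hπ a).add (adicSum_spec hπ b))

theorem adicSum_sub_const_mul (c : R) (a b : ℕ → R) :
    adicSum hπ (fun l => a l - c * b l) = adicSum hπ a - c * adicSum hπ b := by
  have h := (adicSum_spec hπ a).add ((adicSum_spec hπ b).const_mul (-c))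
  have e : (a + fun l => -c * b l) = fun l => a l - c * b l := funext fun l => by simp [sub_eq_add_neg]
  rw [e] at h
  rw [adicSum_eq_of hπ h]
  ring

theorem adicSum_single (a : ℕ → R) (h : ∀ l, a (l + 1) = 0) : adicSum hπ a = a 0 := by
  rw [adicSum_succ hπ a, adicSum_eq_of hπ (L := 0) (a := fun l => a (l + 1)) fun N => by simp [h]]
  simp

omit [IsLocalRing R] [IsAdicComplete (maximalIdeal R) R] in
theorem eq_i2 (m : Fin 2 →₀ ℕ) : m = Finsupp.single 0 (m 0) + Finsupp.single 1 (m 1) := by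
  ext i
  fin_cases i <;> simp

/-- The index `(i, j)`. -/
noncomputable def i2 (i j : ℕ) : Fin 2 →₀ ℕ := Finsupp.single 0 i + Finsupp.single 1 j

@[simp] theorem i2_zero (i j : ℕ) : i2 i j 0 = i := by simp [i2]
@[simp] theorem i2_one (i j : ℕ) : i2 i j 1 = j := by simp [i2]

/-- The coordinate of degree `m`. -/
noncomputable def pcoord (f : MvPowerSeries (Fin 2) R) (m : ℤ) : R :=
  adicSum hπ fun l => MvPowerSeries.coeff (i2 (m.toNat + l) ((-m).toNat + l)) f

theorem pcoord_add (f g : MvPowerSeries (Fin 2) R) (m : ℤ) :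
    pcoord hπ (f + g) m = pcoord hπ f m + pcoord hπ g m := by
  simp only [pcoord, map_add]
  exact adicSum_add hπ _ _

omit [IsLocalRing R] [IsAdicComplete (maximalIdeal R) R] in
theorem coeff_rel_mul (h : MvPowerSeries (Fin 2) R) (i j : ℕ) :
    MvPowerSeries.coeff (i2 (i + 1) (j + 1))
      ((MvPowerSeries.X 0 * MvPowerSeries.X 1 - MvPowerSeries.C π : MvPowerSeries (Fin 2) R) * h) =
      MvPowerSeries.coeff (i2 i j) h - π * MvPowerSeries.coeff (i2 (i + 1) (j + 1)) h := by
  have hle : i2 1 1 ≤ i2 (i + 1) (j + 1) := fun s => by fin_cases s <;> simp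
  have hsub : i2 (i + 1) (j + 1) - i2 1 1 = i2 i j := by
    ext s
    fin_cases s <;> simp
  rw [sub_mul, map_sub, MvPowerSeries.coeff_C_mul, MvPowerSeries.X, MvPowerSeries.X,
    MvPowerSeries.monomial_mul_monomial, show Finsupp.single (0 : Fin 2) 1 + Finsupp.single 1 1 = i2 1 1 from rfl,
    MvPowerSeries.coeff_monomial_mul, if_pos hle, hsub, one_mul, one_mul]

omit [IsLocalRing R] [IsAdicComplete (maximalIdeal R) R] in
theorem coeff_rel_mul_zero (h : MvPowerSeries (Fin 2) R) (i j : ℕ) (h0 : i = 0 ∨ j = 0) :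
    MvPowerSeries.coeff (i2 i j)
      ((MvPowerSeries.X 0 * MvPowerSeries.X 1 - MvPowerSeries.C π : MvPowerSeries (Fin 2) R) * h) =
      -(π * MvPowerSeries.coeff (i2 i j) h) := by
  have hle : ¬ i2 1 1 ≤ i2 i j := fun hl => by
    have e0 := hl 0
    have e1 := hl 1
    simp only [i2_zero, i2_one] at e0 e1
    omega
  rw [sub_mul, map_sub, MvPowerSeries.coeff_C_mul, MvPowerSeries.X, MvPowerSeries.X,
    MvPowerSeries.monomial_mul_monomial, show Finsupp.single (0 : Fin 2) 1 + Finsupp.single 1 1 = i2 1 1 from rfl,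
    MvPowerSeries.coeff_monomial_mul, if_neg hle, zero_sub]

theorem pcoord_rel_mul (h : MvPowerSeries (Fin 2) R) (m : ℤ) :
    pcoord hπ ((MvPowerSeries.X 0 * MvPowerSeries.X 1 - MvPowerSeries.C π : MvPowerSeries (Fin 2) R) * h) m = 0 := by
  rw [pcoord, adicSum_succ]
  simp only [← add_assoc, add_zero, coeff_rel_mul]
  rw [coeff_rel_mul_zero _ _ _ (by omega), adicSum_sub_const_mul,
    adicSum_succ hπ (fun l => MvPowerSeries.coeff (i2 (m.toNat + l) ((-m).toNat + l)) h)]
  simp only [← add_assoc, add_zero]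
  ring

theorem mem_span_of_pcoord_eq_zero {f : MvPowerSeries (Fin 2) R} (hf : ∀ m, pcoord hπ f m = 0) :
    f ∈ Ideal.span {(MvPowerSeries.X 0 * MvPowerSeries.X 1 - MvPowerSeries.C π : MvPowerSeries (Fin 2) R)} := by
  let H : MvPowerSeries (Fin 2) R := fun m =>
    adicSum hπ fun l => MvPowerSeries.coeff (i2 (m 0 + l + 1) (m 1 + l + 1)) f
  refine Ideal.mem_span_singleton.2 ⟨H, ?_⟩
  ext m
  obtain ⟨i, j, rfl⟩ : ∃ i j, m = i2 i j := ⟨m 0, m 1, eq_i2 m⟩
  have hH : ∀ a b, MvPowerSeries.coeff (i2 a b) H =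
      adicSum hπ fun l => MvPowerSeries.coeff (i2 (a + l + 1) (b + l + 1)) f := fun a b => by
    rw [MvPowerSeries.coeff_apply]
    simp [H]
  by_cases h0 : i = 0 ∨ j = 0
  · rw [coeff_rel_mul_zero _ _ _ h0, hH, eq_neg_iff_add_eq_zero]
    have h := hf ((i : ℤ) - j)
    rw [pcoord, adicSum_succ] at h
    rw [show ((i : ℤ) - j).toNat = i by omega, show (-((i : ℤ) - j)).toNat = j by omega] at h
    simpa only [← add_assoc, add_zero] using h
  · obtain ⟨i, rfl⟩ : ∃ i', i = i' + 1 := ⟨i - 1, by omega⟩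
    obtain ⟨j, rfl⟩ : ∃ j', j = j' + 1 := ⟨j - 1, by omega⟩
    rw [coeff_rel_mul, hH, hH, adicSum_succ hπ]
    have e : ∀ a l : ℕ, a + (l + 1) + 1 = a + 1 + l + 1 := fun a l => by omega
    simp only [e, add_zero]
    ring

include hπ in
theorem mk_eq_mk_iff (f g : MvPowerSeries (Fin 2) R) :
    (Ideal.Quotient.mk _ f : _root_.SpinCurv.NodeRing R π) = Ideal.Quotient.mk _ g ↔
      ∀ m, pcoord hπ f m = pcoord hπ g m := by
  rw [Ideal.Quotient.mk_eq_mk_iff_sub_mem]
  constructor
  · intro h m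
    obtain ⟨c, hc⟩ := Ideal.mem_span_singleton.1 h
    have := pcoord_add hπ (f - g) g m
    rwa [sub_add_cancel, hc, pcoord_rel_mul, zero_add] at this
  · intro h
    refine mem_span_of_pcoord_eq_zero hπ fun m => ?_
    have := pcoord_add hπ (f - g) g m
    rw [sub_add_cancel, h m] at this
    exact right_eq_add.mp this

omit [IsLocalRing R] [IsAdicComplete (maximalIdeal R) R] in
theorem coeff_toMv (i : Fin 2) (f : PowerSeries R) (a : ℕ) :
    MvPowerSeries.coeff (Finsupp.single i a) (PowerSeries.toMvPowerSeries i f) = PowerSeries.coeff a f := by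
  have h := MvPowerSeries.coeff_embDomain_rename (R := R) (⟨fun _ : Unit => i, fun _ _ _ => rfl⟩ : Unit ↪ Fin 2) f (Finsupp.single () a)
  rw [Finsupp.embDomain_single] at h
  exact h

omit [IsLocalRing R] [IsAdicComplete (maximalIdeal R) R] in
theorem coeff_toMv_eq_zero (i : Fin 2) (f : PowerSeries R) {m : Fin 2 →₀ ℕ} (j : Fin 2) (hj : j ≠ i)
    (hm : m j ≠ 0) : MvPowerSeries.coeff m (PowerSeries.toMvPowerSeries i f) = 0 := by
  refine MvPowerSeries.coeff_rename_eq_zero (R := R) (fun _ : Unit => i) f ?_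
  rintro ⟨x, rfl⟩
  refine hm ?_
  rw [Finsupp.unique_single x, Finsupp.mapDomain_single, Finsupp.single_eq_of_ne hj]

theorem pcoord_toMv_zero (f : PowerSeries R) (m : ℤ) :
    pcoord hπ (PowerSeries.toMvPowerSeries 0 f) m = if 0 ≤ m then PowerSeries.coeff m.toNat f else 0 := by
  rw [pcoord, adicSum_single hπ _ fun l => coeff_toMv_eq_zero 0 f 1 (by decide) (by simp)]
  simp only [add_zero]
  split_ifs with h
  · rw [show (-m).toNat = 0 by omega, show i2 m.toNat 0 = Finsupp.single 0 m.toNat by simp [i2], coeff_toMv]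
  · exact coeff_toMv_eq_zero 0 f 1 (by decide) (by simp; omega)

theorem pcoord_toMv_one (f : PowerSeries R) (m : ℤ) :
    pcoord hπ (PowerSeries.toMvPowerSeries 1 f) m = if m ≤ 0 then PowerSeries.coeff (-m).toNat f else 0 := by
  rw [pcoord, adicSum_single hπ _ fun l => coeff_toMv_eq_zero 1 f 0 (by decide) (by simp)]
  simp only [add_zero]
  split_ifs with h
  · rw [show m.toNat = 0 by omega, show i2 0 (-m).toNat = Finsupp.single 1 (-m).toNat by simp [i2], coeff_toMv]
  · exact coeff_toMv_eq_zero 1 f 0 (by decide) (by simp; omega)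

open _root_.SpinCurv in
include hπ in
/-- Every element is a series in `x` plus `y` times a series in `y`. -/
theorem exists_eq_ofX_add (a : NodeRing R π) :
    ∃ f g : PowerSeries R, a = NodeRing.ofX R π f + NodeRing.y R π * NodeRing.ofY R π g := by
  obtain ⟨F, rfl⟩ := Ideal.Quotient.mk_surjective a
  refine ⟨PowerSeries.mk fun n => pcoord hπ F n, PowerSeries.mk fun n => pcoord hπ F (-((n + 1 : ℕ) : ℤ)), ?_⟩
  rw [← map_mul, ← map_add, mk_eq_mk_iff hπ, ← PowerSeries.toMvPowerSeries_X (i := (1 : Fin 2)), ← map_mul]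
  intro m
  rw [pcoord_add, pcoord_toMv_zero, pcoord_toMv_one]
  rcases lt_trichotomy m 0 with h | rfl | h
  · obtain ⟨n, rfl⟩ : ∃ n : ℕ, m = -((n + 1 : ℕ) : ℤ) := ⟨(-m).toNat - 1, by omega⟩
    rw [if_neg (by omega), if_pos (by omega), show (-(-((n + 1 : ℕ) : ℤ))).toNat = n + 1 by omega,
      PowerSeries.coeff_succ_X_mul, PowerSeries.coeff_mk, zero_add]
  · simp
  · rw [if_pos h.le, if_neg (by omega), PowerSeries.coeff_mk, add_zero, show ((m.toNat : ℕ) : ℤ) = m by omega]

open _root_.SpinCurv in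
include hπ in
/-- Every element is a series in `y` plus `x` times a series in `x`. -/
theorem exists_eq_ofY_add (a : NodeRing R π) :
    ∃ g f : PowerSeries R, a = NodeRing.ofY R π g + NodeRing.x R π * NodeRing.ofX R π f := by
  obtain ⟨F, rfl⟩ := Ideal.Quotient.mk_surjective a
  refine ⟨PowerSeries.mk fun n => pcoord hπ F (-(n : ℤ)), PowerSeries.mk fun n => pcoord hπ F ((n + 1 : ℕ) : ℤ), ?_⟩
  rw [← map_mul, ← map_add, mk_eq_mk_iff hπ, ← PowerSeries.toMvPowerSeries_X (i := (0 : Fin 2)), ← map_mul]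
  intro m
  rw [pcoord_add, pcoord_toMv_zero, pcoord_toMv_one]
  rcases lt_trichotomy m 0 with h | rfl | h
  · rw [if_pos h.le, if_neg (by omega), PowerSeries.coeff_mk, add_zero, show -(((-m).toNat : ℕ) : ℤ) = m by omega]
  · simp
  · obtain ⟨n, rfl⟩ : ∃ n : ℕ, m = ((n + 1 : ℕ) : ℤ) := ⟨m.toNat - 1, by omega⟩
    rw [if_neg (by omega), if_pos (by omega), show (((n + 1 : ℕ) : ℤ)).toNat = n + 1 by omega,
      PowerSeries.coeff_succ_X_mul, PowerSeries.coeff_mk, zero_add]

open _root_.SpinCurv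

theorem node_xy (p q : R) : NodeRing.x R (p * q) * NodeRing.y R (p * q) =
    algebraMap R (NodeRing R (p * q)) p * algebraMap R (NodeRing R (p * q)) q := by
  rw [← map_mul (algebraMap R (NodeRing R (p * q)))]
  exact Ideal.Quotient.mk_eq_mk_iff_sub_mem (MvPowerSeries.X 0 * MvPowerSeries.X 1) (MvPowerSeries.C (p * q)) |>.2
    (Ideal.mem_span_singleton_self _)

/-- The restricted map `(f(x), g(y)) ↦ α(f, g)` is injective. -/
theorem alpha_injective {p q : R} (hpq : p * q ∈ maximalIdeal R) (f g f' g' : PowerSeries R)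
    (h0 : NodeRing.x R (p * q) * NodeRing.ofX R (p * q) f + algebraMap R _ p * NodeRing.ofY R (p * q) g =
      NodeRing.x R (p * q) * NodeRing.ofX R (p * q) f' + algebraMap R _ p * NodeRing.ofY R (p * q) g')
    (h1 : algebraMap R _ q * NodeRing.ofX R (p * q) f + NodeRing.y R (p * q) * NodeRing.ofY R (p * q) g =
      algebraMap R _ q * NodeRing.ofX R (p * q) f' + NodeRing.y R (p * q) * NodeRing.ofY R (p * q) g') :
    f = f' ∧ g = g' := by
  have ea : ∀ r : R, algebraMap R (NodeRing R (p * q)) r = Ideal.Quotient.mk _ (MvPowerSeries.C r) := fun r => rfl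
  simp only [ea, ← map_mul, ← map_add, mk_eq_mk_iff hpq] at h0 h1
  simp only [← PowerSeries.toMvPowerSeries_C (σ := Fin 2) (i := (1 : Fin 2)) (r := p),
    ← PowerSeries.toMvPowerSeries_X (i := (0 : Fin 2)), ← map_mul] at h0
  simp only [← PowerSeries.toMvPowerSeries_C (σ := Fin 2) (i := (0 : Fin 2)) (r := q),
    ← PowerSeries.toMvPowerSeries_X (i := (1 : Fin 2)), ← map_mul] at h1
  constructor
  · ext n
    have h := h0 ((n + 1 : ℕ) : ℤ)
    simp only [pcoord_add, pcoord_toMv_zero, pcoord_toMv_one] at h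
    rw [if_pos (by omega), if_neg (by omega), if_pos (by omega), if_neg (by omega),
      show (((n + 1 : ℕ) : ℤ)).toNat = n + 1 by omega] at h
    simpa using h
  · ext n
    have h := h1 (-((n + 1 : ℕ) : ℤ))
    simp only [pcoord_add, pcoord_toMv_zero, pcoord_toMv_one] at h
    rw [if_neg (by omega), if_pos (by omega), if_neg (by omega), if_pos (by omega),
      show (-(-((n + 1 : ℕ) : ℤ))).toNat = n + 1 by omega] at h
    simpa using h

/-- Reduction of a column modulo `(p, -x)` and `(y, -q)`. -/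
theorem exists_decomp {p q : R} (hpq : p * q ∈ maximalIdeal R) (a b : NodeRing R (p * q)) :
    ∃ (f g : PowerSeries R) (c d : NodeRing R (p * q)),
      a = NodeRing.ofX R (p * q) f + c * algebraMap R _ p + d * NodeRing.y R (p * q) ∧
      b = NodeRing.ofY R (p * q) g - c * NodeRing.x R (p * q) - d * algebraMap R _ q := by
  obtain ⟨f, g', rfl⟩ := exists_eq_ofX_add hpq a
  obtain ⟨g, f', hb⟩ := exists_eq_ofY_add hpq (b + algebraMap R _ q * NodeRing.ofY R (p * q) g')
  refine ⟨f + PowerSeries.C p * f', g, -NodeRing.ofX R (p * q) f', NodeRing.ofY R (p * q) g', ?_, ?_⟩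
  · rw [show NodeRing.ofX R (p * q) (f + PowerSeries.C p * f') =
        NodeRing.ofX R (p * q) f + algebraMap R _ p * NodeRing.ofX R (p * q) f' by
      simp only [NodeRing.ofX, map_add, map_mul, PowerSeries.toMvPowerSeries_C]; rfl]
    ring
  · linear_combination hb

end Groth.SpinCurv
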